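import Mathlib

/-!
# `p`-radical ring maps without characteristic assumptions
-/

universe u

namespace Groth.Agent.PerfSchLib

variable (p : ℕ)

/-- The ring has `p = 0` and bijective `p`-th power map. -/
def PerfRing (B : Type u) [CommRing B] : Prop :=
  (p : B) = 0 ∧ Function.Bijective fun s : B => s ^ p

/-- `i` is radicial: `p`-power surjective with nil kernel. -/
def PRad {A A' : Type u} [CommRing A] [CommRing A'] (i : A →+* A') : Prop :=
  (∀ x : A', ∃ n a, i a = x ^ p ^ n) ∧ ∀ a : A, i a = 0 → IsNilpotent a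

variable {p} [hp : Fact p.Prime]

theorem charP_of (B : Type u) [CommRing B] [Nontrivial B] (h : (p : B) = 0) : CharP B p :=
  (CharP.charP_iff_prime_eq_zero hp.out).2 h

theorem PerfRing.perfectRing {B : Type u} [CommRing B] [CharP B p] (h : PerfRing p B) :
    PerfectRing B p := ⟨h.2⟩

theorem sub_pow (B : Type u) [CommRing B] (h : (p : B) = 0) (n : ℕ) (x y : B) :
    (x - y) ^ p ^ n = x ^ p ^ n - y ^ p ^ n := by
  rcases subsingleton_or_nontrivial B with hB | hB
  · exact Subsingleton.elim _ _
  · have := charP_of (p := p) B h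
    exact sub_pow_char_pow ..

theorem add_pow (B : Type u) [CommRing B] (h : (p : B) = 0) (n : ℕ) (x y : B) :
    (x + y) ^ p ^ n = x ^ p ^ n + y ^ p ^ n := by
  rw [← sub_neg_eq_add x, sub_pow B h, sub_eq_add_neg]
  have h0 := sub_pow B h n 0 y
  rw [zero_sub, zero_pow (pow_ne_zero _ hp.out.ne_zero), zero_sub] at h0
  rw [h0, neg_neg]

theorem PerfRing.pow_bijective {B : Type u} [CommRing B] (h : PerfRing p B) :
    ∀ n, Function.Bijective fun s : B => s ^ p ^ n
  | 0 => by simp only [pow_zero, pow_one]; exact Function.bijective_id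
  | n + 1 => by
    have : (fun s : B => s ^ p ^ (n + 1)) = (fun s => s ^ p) ∘ fun s => s ^ p ^ n := by
      funext s; simp [pow_succ, pow_mul]
    rw [this]
    exact h.2.comp (h.pow_bijective n)

theorem PerfRing.eq_zero {B : Type u} [CommRing B] (h : PerfRing p B) {x : B} (hx : IsNilpotent x) :
    x = 0 := by
  obtain ⟨m, hm⟩ := hx
  refine (h.pow_bijective m).1 ?_
  show x ^ p ^ m = 0 ^ p ^ m
  rw [zero_pow (pow_ne_zero _ hp.out.ne_zero),
    pow_eq_zero_of_le (Nat.lt_pow_self hp.out.one_lt).le hm]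

theorem PerfRing.of_equiv {B C : Type u} [CommRing B] [CommRing C] (e : B ≃+* C) (h : PerfRing p B) :
    PerfRing p C := by
  refine ⟨by rw [← map_natCast e, h.1, map_zero], ?_, fun y => ?_⟩
  · intro x y hxy
    refine e.symm.injective (h.2.1 ?_)
    simpa using congrArg e.symm hxy
  · obtain ⟨x, hx⟩ := h.2.2 (e.symm y)
    exact ⟨e x, e.symm.injective (by simpa using hx)⟩

/-- Maps out of a radicial extension into a perfect ring. -/
theorem PRad.exists_lift {A A' B : Type u} [CommRing A] [CommRing A'] [CommRing B] {i : A →+* A'}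
    (hi : PRad p i) (hA : (p : A) = 0) (hB : PerfRing p B) (f : A →+* B) :
    ∃ g : A' →+* B, g.comp i = f := by
  have hA' : (p : A') = 0 := by rw [← map_natCast i, hA, map_zero]
  choose r hr using fun n => (hB.pow_bijective n).2
  choose n a ha using hi.1
  have key : ∀ (y : A') (m : ℕ) (b : A), i b = y ^ p ^ m → r (n y) (f (a y)) ^ p ^ m = f b := by
    intro y m b hb
    refine (hB.pow_bijective (n y)).1 ?_
    show (r (n y) (f (a y)) ^ p ^ m) ^ p ^ n y = f b ^ p ^ n y
    rw [← pow_mul, mul_comm, pow_mul, show r (n y) (f (a y)) ^ p ^ n y = f (a y) from hr _ _, ← map_pow, ← map_pow,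
      ← sub_eq_zero, ← map_sub]
    have h0 : IsNilpotent (a y ^ p ^ m - b ^ p ^ n y) := hi.2 _ (by
      rw [map_sub, map_pow, map_pow, ha, hb, ← pow_mul, ← pow_mul, mul_comm, sub_self])
    exact hB.eq_zero (h0.map f)
  refine ⟨{ toFun := fun y => r (n y) (f (a y))
            map_one' := ?_
            map_mul' := fun x y => ?_
            map_zero' := ?_
            map_add' := fun x y => ?_ }, RingHom.ext fun b => ?_⟩
  · simpa using key 1 0 1 (by simp)
  · refine (hB.pow_bijective (n x + n y)).1 ?_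
    show r (n (x * y)) (f (a (x * y))) ^ p ^ (n x + n y) = (_ * _) ^ p ^ (n x + n y)
    rw [key (x * y) (n x + n y) (a x ^ p ^ n y * a y ^ p ^ n x)
      (by rw [map_mul, map_pow, map_pow, ha, ha]; ring), map_mul, map_pow, map_pow, mul_pow]
    have ex : r (n x) (f (a x)) ^ p ^ n x = f (a x) := hr _ _
    have ey : r (n y) (f (a y)) ^ p ^ n y = f (a y) := hr _ _
    generalize r (n x) (f (a x)) = u at ex ⊢
    generalize r (n y) (f (a y)) = v at ey ⊢
    rw [← ex, ← ey]
    ring
  · simpa using key 0 0 0 (by simp)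
  · refine (hB.pow_bijective (n x + n y)).1 ?_
    show r (n (x + y)) (f (a (x + y))) ^ p ^ (n x + n y) = (_ + _) ^ p ^ (n x + n y)
    rw [key (x + y) (n x + n y) (a x ^ p ^ n y + a y ^ p ^ n x)
      (by rw [map_add, map_pow, map_pow, ha, ha, add_pow A' hA']; ring), map_add, map_pow, map_pow,
      add_pow B hB.1]
    have ex : r (n x) (f (a x)) ^ p ^ n x = f (a x) := hr _ _
    have ey : r (n y) (f (a y)) ^ p ^ n y = f (a y) := hr _ _
    generalize r (n x) (f (a x)) = u at ex ⊢
    generalize r (n y) (f (a y)) = v at ey ⊢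
    rw [← ex, ← ey]
    ring
  · simpa using key (i b) 0 b (by simp)

/-- Maps out of a radicial extension into a perfect ring agree once they agree on the base. -/
theorem PRad.hom_ext {A A' B : Type u} [CommRing A] [CommRing A'] [CommRing B] {i : A →+* A'}
    (hi : PRad p i) (hB : PerfRing p B) {g g' : A' →+* B} (h : g.comp i = g'.comp i) : g = g' := by
  refine RingHom.ext fun y => ?_
  obtain ⟨n, a, ha⟩ := hi.1 y
  refine (hB.pow_bijective n).1 ?_
  show g y ^ p ^ n = g' y ^ p ^ n
  rw [← map_pow, ← map_pow, ← ha]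
  exact RingHom.congr_fun h a

/-- Existence of a perfect radicial extension. -/
theorem exists_perfect_extension (A : Type u) [CommRing A] (hA : (p : A) = 0) :
    ∃ (A' : CommRingCat.{u}) (i : A →+* A'), PerfRing p A' ∧ PRad p i := by
  rcases subsingleton_or_nontrivial A with hs | hn
  · refine ⟨CommRingCat.of A, RingHom.id A, ⟨hA, fun x y _ => Subsingleton.elim _ _, fun x => ⟨x, Subsingleton.elim _ _⟩⟩,
      fun x => ⟨0, x, by simp⟩, fun a _ => ⟨1, Subsingleton.elim _ _⟩⟩
  · have := charP_of (p := p) A hA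
    refine ⟨CommRingCat.of (PerfectClosure A p), PerfectClosure.of A p,
      ⟨CharP.cast_eq_zero (PerfectClosure A p) p, PerfectRing.bijective_frobenius⟩, ?_, ?_⟩
    · intro x
      obtain ⟨⟨n, a⟩, rfl⟩ := PerfectClosure.mk_surjective A p x
      refine ⟨n, a, ?_⟩
      rw [PerfectClosure.of_apply, PerfectClosure.mk_pow, PerfectClosure.mk_eq_iff]
      exact ⟨0, by simp [iterate_frobenius]⟩
    · intro a ha
      rw [PerfectClosure.of_apply, PerfectClosure.zero_def, PerfectClosure.mk_eq_iff] at ha
      obtain ⟨z, hz⟩ := ha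
      simp only [Nat.zero_add, iterate_frobenius, Nat.add_zero] at hz
      exact ⟨p ^ z, by rw [hz, zero_pow (pow_ne_zero _ hp.out.ne_zero)]⟩

theorem PRad.comp_equiv {A A' A'' C : Type u} [CommRing A] [CommRing A'] [CommRing A''] [CommRing C]
    {i : A →+* A'} (hi : PRad p i) (e : A' ≃+* A'') (d : C ≃+* A) :
    PRad p ((e.toRingHom.comp i).comp d.toRingHom) := by
  refine ⟨fun x => ?_, fun c hc => ?_⟩
  · obtain ⟨n, a, ha⟩ := hi.1 (e.symm x)
    exact ⟨n, d.symm a, by simp [ha]⟩
  · have h : IsNilpotent (d c) := hi.2 _ (e.injective (by simpa using hc))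
    simpa using h.map d.symm

end Groth.Agent.PerfSchLib
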