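import Mathlib
import Groth.Prelude.Def_Frob
import Groth.Agent.PerfSchLib.Ring

/-!
# Perfections of schemes are affine radicial morphisms
-/

universe u

open CategoryTheory CategoryTheory.Limits AlgebraicGeometry

set_option linter.style.haveILetI false

namespace Groth.Agent.PerfSchLib

variable {p : ℕ} [hp : Fact p.Prime]

theorem natCast_eq_zero (X : Scheme.{u}) [FrobSch.IsCharP X p] (U : X.Opens) : (p : Γ(X, U)) = 0 :=
  FrobSch.natCast_eq_zero_app X p U

theorem perfRing_of_isPerfect (X : Scheme.{u}) [FrobSch.IsCharP X p] (h : FrobSch.IsPerfect X p)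
    (U : X.Opens) : PerfRing p Γ(X, U) := by
  haveI := h
  refine ⟨natCast_eq_zero X U, ?_⟩
  have := ConcreteCategory.bijective_of_isIso ((FrobSch.frob X p).app U)
  exact this

theorem isPerfect_of_isAffine (X : Scheme.{u}) [IsAffine X] [FrobSch.IsCharP X p]
    (h : Function.Bijective fun s : Γ(X, ⊤) => s ^ p) : FrobSch.IsPerfect X p := by
  haveI : IsIso (FrobSch.frob X p).appTop := by
    rw [ConcreteCategory.isIso_iff_bijective]; exact h
  exact (HasAffineProperty.iff_of_isAffine (P := MorphismProperty.isomorphisms Scheme)).mpr ⟨inferInstance, inferInstance⟩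

theorem isPerfect_opens (X : Scheme.{u}) [FrobSch.IsCharP X p] (h : FrobSch.IsPerfect X p) (U : X.Opens)
    [FrobSch.IsCharP U.toScheme p] : FrobSch.IsPerfect U.toScheme p := by
  haveI := h
  have hc : IsOpenImmersion (FrobSch.frob U.toScheme p ≫ U.ι) := by
    rw [FrobSch.frob_comp p U.ι]; infer_instance
  haveI : IsOpenImmersion (FrobSch.frob U.toScheme p) := IsOpenImmersion.of_comp _ U.ι
  exact (isIso_iff_isOpenImmersion_and_surjective _).mpr ⟨inferInstance, ⟨fun x => ⟨x, rfl⟩⟩⟩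

variable {X XP : Scheme.{u}} [FrobSch.IsCharP XP p] {π : XP ⟶ X}

theorem IsPerfection.restrict (h : FrobSch.IsPerfection π p) (U : X.Opens)
    [FrobSch.IsCharP (π ⁻¹ᵁ U).toScheme p] : FrobSch.IsPerfection (π ∣_ U) p := by
  refine ⟨isPerfect_opens XP h.1 _, fun Y _ hY => ⟨fun g g' e => ?_, fun g => ?_⟩⟩
  · rw [← cancel_mono (π ⁻¹ᵁ U).ι]
    refine (h.2 Y hY).1 ?_
    have e' := congrArg (· ≫ U.ι) e
    simpa [Category.assoc, morphismRestrict_ι] using e'
  · obtain ⟨g₀, hg₀⟩ := (h.2 Y hY).2 (g ≫ U.ι)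
    have hrange : Set.range g₀ ⊆ Set.range (π ⁻¹ᵁ U).ι := by
      rintro _ ⟨y, rfl⟩
      rw [Scheme.Opens.range_ι]
      show π (g₀ y) ∈ U
      rw [← Scheme.Hom.comp_apply, show g₀ ≫ π = g ≫ U.ι from hg₀, Scheme.Hom.comp_apply]
      exact (g y).2
    refine ⟨IsOpenImmersion.lift (π ⁻¹ᵁ U).ι g₀ hrange, ?_⟩
    show _ ≫ π ∣_ U = g
    rw [← cancel_mono U.ι, Category.assoc, morphismRestrict_ι, ← Category.assoc, IsOpenImmersion.lift_fac]
    exact hg₀

/-- Two perfections are uniquely isomorphic. -/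
theorem IsPerfection.exists_iso {XQ : Scheme.{u}} [FrobSch.IsCharP XQ p] {ρ : XQ ⟶ X}
    (h : FrobSch.IsPerfection π p) (h' : FrobSch.IsPerfection ρ p) : ∃ e : XP ≅ XQ, e.hom ≫ ρ = π := by
  obtain ⟨a, ha⟩ := (h'.2 XP h.1).2 π
  obtain ⟨b, hb⟩ := (h.2 XQ h'.1).2 ρ
  simp only at ha hb
  exact ⟨⟨a, b, (h.2 XP h.1).1 (by simp [hb, ha]), (h'.2 XQ h'.1).1 (by simp [hb, ha])⟩, ha⟩

/-- A radicial perfect extension gives a perfection of an affine scheme. -/
theorem isPerfection_spec {A A' : CommRingCat.{u}} (i : A ⟶ A') (hA : (p : A) = 0)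
    (h' : PerfRing p A') (hi : PRad p i.hom) [FrobSch.IsCharP (Spec A') p] :
    FrobSch.IsPerfection (Spec.map i) p := by
  constructor
  · refine isPerfect_of_isAffine _ ?_
    exact (h'.of_equiv (Scheme.ΓSpecIso A').commRingCatIsoToRingEquiv.symm).2
  intro Y _ hY
  have hB := perfRing_of_isPerfect Y hY ⊤
  refine ⟨fun g g' e => ?_, fun g => ?_⟩
  · refine ext_of_isAffine ?_
    rw [← cancel_epi (Scheme.ΓSpecIso A').inv]
    refine CommRingCat.hom_ext (hi.hom_ext hB ?_)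
    have e' := congrArg (fun q => (Scheme.ΓSpecIso A).inv ≫ Scheme.Hom.appTop q) e
    simp only [Scheme.Hom.comp_appTop, ← Scheme.ΓSpecIso_inv_naturality_assoc] at e'
    exact congrArg CommRingCat.Hom.hom e'
  · obtain ⟨l, hl⟩ := hi.exists_lift hA hB ((Scheme.ΓSpecIso A).inv ≫ g.appTop).hom
    refine ⟨Y.toSpecΓ ≫ Spec.map (CommRingCat.ofHom l), ?_⟩
    show (Y.toSpecΓ ≫ Spec.map (CommRingCat.ofHom l)) ≫ Spec.map i = g
    have e : i ≫ CommRingCat.ofHom l = (Scheme.ΓSpecIso A).inv ≫ g.appTop := CommRingCat.hom_ext hl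
    rw [Category.assoc, ← Spec.map_comp, e]
    refine ext_of_isAffine ?_
    simp [Scheme.Hom.comp_appTop, ← Scheme.ΓSpecIso_inv_naturality_assoc, Scheme.toSpecΓ_appTop]

/-- The perfection of an affine open is affine with radicial ring map. -/
theorem IsPerfection.affine_facts [FrobSch.IsCharP X p] (h : FrobSch.IsPerfection π p) {U : X.Opens}
    (hU : IsAffineOpen U) : IsAffineOpen (π ⁻¹ᵁ U) ∧ PRad p (π.app U).hom := by
  haveI : IsAffine U.toScheme := hU
  haveI : FrobSch.IsCharP (π ⁻¹ᵁ U).toScheme p := FrobSch.IsCharP.of_hom (π ⁻¹ᵁ U).ι p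
  haveI : FrobSch.IsCharP U.toScheme p := FrobSch.IsCharP.of_hom U.ι p
  obtain ⟨A', i, h', hi⟩ := exists_perfect_extension (p := p) Γ(U.toScheme, ⊤) (natCast_eq_zero _ _)
  let i' : Γ(U.toScheme, ⊤) ⟶ A' := CommRingCat.ofHom i
  haveI : FrobSch.IsCharP (Spec A') p :=
    ⟨by rw [← map_natCast (Scheme.ΓSpecIso A').inv.hom, h'.1, map_zero]⟩
  have hS := isPerfection_spec i' (natCast_eq_zero U.toScheme ⊤) h' hi
  haveI : IsIso U.toScheme.toSpecΓ := inferInstance
  have hS' : FrobSch.IsPerfection (Spec.map i' ≫ U.toScheme.isoSpec.inv) p := by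
    refine ⟨hS.1, fun Y _ hY => ⟨fun g g' e => (hS.2 Y hY).1 ?_, fun g => ?_⟩⟩
    · have e' := congrArg (· ≫ U.toScheme.isoSpec.hom) e
      simpa using e'
    · obtain ⟨l, hl⟩ := (hS.2 Y hY).2 (g ≫ U.toScheme.isoSpec.hom)
      refine ⟨l, ?_⟩
      simp only at hl ⊢
      rw [← Category.assoc, hl, Category.assoc, Iso.hom_inv_id, Category.comp_id]
  obtain ⟨e, he⟩ := IsPerfection.exists_iso (IsPerfection.restrict h U) hS'
  have haff : IsAffineOpen (π ⁻¹ᵁ U) := IsAffine.of_isIso e.hom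
  refine ⟨haff, ?_⟩
  have h1 : PRad p (π ∣_ U).appTop.hom := by
    rw [← he, Scheme.Hom.comp_appTop, Scheme.Hom.comp_appTop]
    haveI : IsIso e.hom.appTop := inferInstanceAs (IsIso (e.hom.app ⊤))
    have := hi.comp_equiv ((Scheme.ΓSpecIso A').symm ≪≫ asIso e.hom.appTop).commRingCatIsoToRingEquiv
      (RingEquiv.refl _)
    convert this using 1
    change ((U.toScheme.isoSpec.inv.appTop ≫ (Spec.map i').appTop) ≫ e.hom.appTop).hom =
      (i' ≫ (Scheme.ΓSpecIso A').inv ≫ e.hom.appTop).hom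
    congr 1
    have hinv : U.toScheme.isoSpec.inv.appTop = (Scheme.ΓSpecIso Γ(U.toScheme, ⊤)).inv := by
      have := congrArg Scheme.Hom.appTop U.toScheme.isoSpec.hom_inv_id
      rw [Scheme.Hom.comp_appTop, Scheme.Hom.id_appTop, Scheme.isoSpec_hom, Scheme.toSpecΓ_appTop] at this
      exact (Iso.comp_hom_eq_id _).mp this
    rw [hinv, ← Scheme.ΓSpecIso_inv_naturality, Category.assoc]
  have hUU : U.ι ''ᵁ ⊤ = U := Scheme.Opens.ι_image_top U
  have h2 : PRad p (π.app (U.ι ''ᵁ ⊤)).hom := by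
    have := h1.comp_equiv ((XP.presheaf.mapIso (eqToIso (image_morphismRestrict_preimage π U ⊤)).op).commRingCatIsoToRingEquiv.symm)
      (RingEquiv.refl _)
    have e2 : (π ∣_ U).appTop ≫
        (XP.presheaf.mapIso (eqToIso (image_morphismRestrict_preimage π U ⊤)).op).inv =
          π.app (U.ι ''ᵁ ⊤) := by
      rw [morphismRestrict_appTop]
      simp only [Functor.mapIso_inv, Iso.op_inv, eqToIso.inv, eqToHom_op, eqToHom_map, Category.assoc, eqToHom_trans]
      erw [Category.assoc, eqToHom_trans]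
      exact Category.comp_id _
    rw [← e2]
    exact this
  rw [hUU] at h2
  exact h2

end Groth.Agent.PerfSchLib
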