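import Mathlib
import Groth.Prelude.Def_Flat
import Groth.Agent.PerfSchLib.Basic
import Groth.Agent.PerfectionLib.Basic
import Groth.Agent.UnivHomeo.Basic

/-!
# A perfection is a universal homeomorphism; affineness descends along it
-/

universe u

open CategoryTheory CategoryTheory.Limits AlgebraicGeometry TopologicalSpace

set_option linter.style.haveILetI false

namespace Groth.Agent.PerfSchLib

variable {p : ℕ} [hp : Fact p.Prime]

theorem PRad.isPRadical {A A' : Type u} [CommRing A] [CommRing A'] {i : A →+* A'} (hi : PRad p i) :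
    IsPRadical i p := by
  refine ⟨hi.1, fun a ha => ?_⟩
  obtain ⟨m, hm⟩ := hi.2 a ha
  exact mem_pNilradical.mpr ⟨m, pow_eq_zero_of_le (Nat.lt_pow_self hp.out.one_lt).le hm⟩

variable {X XP : Scheme.{u}} [FrobSch.IsCharP X p] [FrobSch.IsCharP XP p] {π : XP ⟶ X}
  (h : FrobSch.IsPerfection π p)

include h

theorem isAffineHom : IsAffineHom π := ⟨fun _ hU => (IsPerfection.affine_facts h hU).1⟩

theorem isIntegralHom : IsIntegralHom π := by
  have := isAffineHom h
  refine ⟨fun U hU x => ?_⟩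
  obtain ⟨n, a, ha⟩ := (IsPerfection.affine_facts h hU).2.1 x
  letI := (π.app U).hom.toAlgebra
  refine IsIntegral.of_pow (n := p ^ n) (pow_pos hp.out.pos _) ?_
  rw [← ha]
  exact isIntegral_algebraMap

theorem surjective : Surjective π := by
  refine ⟨fun x => ?_⟩
  obtain ⟨U, hU, hxU, -⟩ := exists_isAffineOpen_mem_and_subset (x := x) (U := ⊤) trivial
  obtain ⟨hV, hi⟩ := IsPerfection.affine_facts h hU
  have := hi.isPRadical
  obtain ⟨q, hq⟩ : ∃ q, hU.fromSpec q = x := by
    show x ∈ Set.range hU.fromSpec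
    rw [hU.range_fromSpec]; exact hxU
  obtain ⟨q', hq'⟩ := (PerfectionLib.comap_bijective (p := p) (π.app U).hom).2 q
  refine ⟨hV.fromSpec q', ?_⟩
  rw [← Scheme.Hom.comp_apply, ← hU.SpecMap_appLE_fromSpec π hV le_rfl, Scheme.Hom.comp_apply, ← Scheme.Hom.app_eq_appLE,
    ← hq]
  exact congrArg _ hq'

theorem universallyInjective : UniversallyInjective π := by
  refine ((tfae_universallyInjective π).out 1 0 :
    (∀ (K : Type u) [Field K], Function.Injective fun g : Spec (.of K) ⟶ _ => g ≫ π) ↔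
      UniversallyInjective π).mp fun K _ g g' hg => ?_
  simp only at hg
  obtain ⟨U, hU, hxU, -⟩ := exists_isAffineOpen_mem_and_subset
    (x := π (g (default : PrimeSpectrum K))) (U := ⊤) trivial
  obtain ⟨hV, hi⟩ := IsPerfection.affine_facts h hU
  have key : ∀ a : Spec (.of K) ⟶ XP, π (a (default : PrimeSpectrum K)) ∈ U →
      ∃ α : Γ(XP, π ⁻¹ᵁ U) ⟶ CommRingCat.of K, Spec.map α ≫ hV.fromSpec = a := by
    intro a ha
    have hr : Set.range a ⊆ Set.range hV.fromSpec := by
      rintro _ ⟨z, rfl⟩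
      rw [hV.range_fromSpec, Subsingleton.elim z (default : PrimeSpectrum K)]
      exact ha
    obtain ⟨α, hα⟩ := Spec.map_surjective (IsOpenImmersion.lift hV.fromSpec a hr)
    exact ⟨α, by rw [hα, IsOpenImmersion.lift_fac]⟩
  obtain ⟨α, rfl⟩ := key g hxU
  obtain ⟨β, rfl⟩ := key g' (by rw [← Scheme.Hom.comp_apply, ← hg, Scheme.Hom.comp_apply]; exact hxU)
  rw [Category.assoc, Category.assoc, ← hU.SpecMap_appLE_fromSpec π hV le_rfl, ← Category.assoc, ← Category.assoc,
    cancel_mono, ← Spec.map_comp, ← Spec.map_comp] at hg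
  have e := Spec.map_injective hg
  refine congrArg (fun q => Spec.map q ≫ hV.fromSpec) (CommRingCat.hom_ext (RingHom.ext fun y => ?_))
  obtain ⟨n, a, ha⟩ := hi.1 y
  have e1 : α.hom y ^ p ^ n = β.hom y ^ p ^ n := by
    rw [← map_pow, ← map_pow, ← ha]
    rw [← Scheme.Hom.app_eq_appLE] at e
    exact congrArg (fun q : Γ(X, U) ⟶ CommRingCat.of K => q.hom a) e
  have h0 : (p : K) = 0 := by rw [← map_natCast α.hom, natCast_eq_zero XP (π ⁻¹ᵁ U), map_zero]
  have := sub_pow (p := p) K h0 n (α.hom y) (β.hom y)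
  rw [e1, sub_self, pow_eq_zero_iff (pow_ne_zero _ hp.out.ne_zero), sub_eq_zero] at this
  exact this

theorem isUnivHomeo : FlatMor.IsUnivHomeo π := by
  have := isIntegralHom h
  have := universallyInjective h
  have := surjective h
  exact UnivHomeo.of_isIntegralHom π

theorem isHomeomorph : IsHomeomorph π := UnivHomeo.isHomeomorph (isUnivHomeo h)

theorem isNilpotent_of_app_eq_zero {W : X.Opens} (hW : IsCompact (W : Set X)) {a : Γ(X, W)}
    (ha : π.app W a = 0) : IsNilpotent a := by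
  rw [Scheme.isNilpotent_iff_basicOpen_eq_bot_of_isCompact hW]
  have e : π ⁻¹ᵁ X.basicOpen a = ⊥ := by
    rw [Scheme.preimage_basicOpen, ha, Scheme.basicOpen_zero]
  refine le_bot_iff.mp fun x hx => ?_
  obtain ⟨y, rfl⟩ := (isHomeomorph h).surjective x
  have : y ∈ (⊥ : XP.Opens) := e ▸ (show y ∈ π ⁻¹ᵁ X.basicOpen a from hx)
  exact this.elim

theorem exists_pow_eq [QuasiSeparatedSpace X] {W : X.Opens} (hW : IsCompact (W : Set X)) :
    ∀ t : Γ(XP, π ⁻¹ᵁ W), ∃ n a, π.app W a = t ^ p ^ n := by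
  refine compact_open_induction_on (P := fun W => ∀ t : Γ(XP, π ⁻¹ᵁ W), ∃ n a, π.app W a = t ^ p ^ n) W hW ?_ ?_
  · intro t
    exact ⟨0, 0, @Subsingleton.elim _ (XP.sheaf.isTerminalOfEmpty |> fun h => by
      rw [show π ⁻¹ᵁ (⊥ : X.Opens) = ⊥ from rfl]; infer_instance) _ _⟩
  · intro S hS U ih t
    have hle1 : S ≤ S ⊔ U.1 := le_sup_left
    have hle2 : U.1 ≤ S ⊔ U.1 := le_sup_right
    obtain ⟨n1, a1, h1⟩ := ih (XP.presheaf.map ((Opens.map π.base).map (homOfLE hle1)).op t)
    obtain ⟨n2, a2, h2⟩ := (IsPerfection.affine_facts h U.2).2.1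
      (XP.presheaf.map ((Opens.map π.base).map (homOfLE hle2)).op t)
    have hSU : IsCompact ((S ⊓ U.1 : X.Opens) : Set X) :=
      by rw [Opens.coe_inf]; exact QuasiSeparatedSpace.inter_isCompact _ _ S.2 hS U.1.2 U.2.isCompact
    -- both candidates agree on the intersection up to a nilpotent
    let b1 := a1 ^ p ^ n2
    let b2 := a2 ^ p ^ n1
    let i1 : S ⊓ U.1 ⟶ S := homOfLE inf_le_left
    let i2 : S ⊓ U.1 ⟶ U.1 := homOfLE inf_le_right
    have nat : ∀ {A B : X.Opens} (i : A ⟶ B) (x : Γ(X, B)),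
        π.app A (X.presheaf.map i.op x) = XP.presheaf.map ((Opens.map π.base).map i).op (π.app B x) :=
      fun i x => congrArg (fun f => f x) (π.naturality i.op)
    have hd : π.app (S ⊓ U.1) (X.presheaf.map i1.op b1 - X.presheaf.map i2.op b2) = 0 := by
      rw [map_sub, nat, nat, map_pow (π.app S).hom, map_pow (π.app U.1).hom, h1, h2, ← pow_mul, ← pow_mul,
        mul_comm (p ^ n2), ← map_pow, ← map_pow, ← CommRingCat.comp_apply, ← CommRingCat.comp_apply,
        ← Functor.map_comp, ← Functor.map_comp, sub_eq_zero]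
      rfl
    obtain ⟨m, hm⟩ := isNilpotent_of_app_eq_zero h hSU hd
    have heq : X.presheaf.map i1.op (b1 ^ p ^ m) = X.presheaf.map i2.op (b2 ^ p ^ m) := by
      rw [map_pow _ b1, map_pow _ b2, ← sub_eq_zero, ← sub_pow _ (natCast_eq_zero X _)]
      exact pow_eq_zero_of_le (Nat.lt_pow_self hp.out.one_lt).le hm
    let V : Bool → X.Opens := fun b => if b then S else U.1
    let sf : ∀ b, Γ(X, V b) := fun b => match b with
      | true => b1 ^ p ^ m
      | false => b2 ^ p ^ m
    obtain ⟨a, ha, -⟩ := X.sheaf.existsUnique_gluing' V (S ⊔ U.1)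
      (fun b => homOfLE (by cases b <;> simp [V]))
      (sup_le (le_iSup V true) (le_iSup V false)) sf (by
        intro b b'
        cases b <;> cases b'
        · rfl
        · have := congrArg (X.presheaf.map (homOfLE (le_of_eq (inf_comm U.1 S))).op).hom heq
          simp only [← CommRingCat.comp_apply, ← Functor.map_comp] at this
          exact this.symm
        · exact heq
        · rfl)
    refine ⟨n1 + n2 + m, a, ?_⟩
    refine TopCat.Sheaf.eq_of_locally_eq' XP.sheaf (fun b => π ⁻¹ᵁ V b) _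
      (fun b => (Opens.map π.base).map (homOfLE (by cases b <;> simp [V]))) ?_ _ _ fun b => ?_
    · intro y hy
      rcases (show π y ∈ S ∨ π y ∈ U.1 from hy) with hy | hy
      · exact Opens.mem_iSup.mpr ⟨true, hy⟩
      · exact Opens.mem_iSup.mpr ⟨false, hy⟩
    cases b
    · change XP.presheaf.map ((Opens.map π.base).map (homOfLE hle2)).op (π.app (S ⊔ U.1) a) =
        XP.presheaf.map ((Opens.map π.base).map (homOfLE hle2)).op (t ^ p ^ (n1 + n2 + m))
      rw [← nat, show X.presheaf.map (homOfLE hle2).op a = b2 ^ p ^ m from ha false, map_pow, map_pow, h2,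
        map_pow, ← pow_mul, ← pow_mul, ← pow_add, ← pow_add]
      congr 2; omega
    · change XP.presheaf.map ((Opens.map π.base).map (homOfLE hle1)).op (π.app (S ⊔ U.1) a) =
        XP.presheaf.map ((Opens.map π.base).map (homOfLE hle1)).op (t ^ p ^ (n1 + n2 + m))
      rw [← nat, show X.presheaf.map (homOfLE hle1).op a = b1 ^ p ^ m from ha true, map_pow, map_pow, h1,
        map_pow, ← pow_mul, ← pow_mul, ← pow_add, ← pow_add]
      congr 2; omega

theorem isAffine_of_isAffine [IsAffine XP] : IsAffine X := by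
  have hh := isHomeomorph h
  have hcompact : ∀ {W : X.Opens}, IsCompact ((π ⁻¹ᵁ W : XP.Opens) : Set XP) → IsCompact (W : Set X) := by
    intro W hW
    have := hW.image π.continuous
    rwa [show ((π ⁻¹ᵁ W : XP.Opens) : Set XP) = π ⁻¹' W from rfl,
      Set.image_preimage_eq _ hh.surjective] at this
  have : CompactSpace X := by
    refine ⟨?_⟩
    have := hcompact (W := ⊤) (by simpa using isCompact_univ)
    simpa using this
  have : QuasiSeparatedSpace X := by
    rw [quasiSeparatedSpace_iff_forall_affineOpens]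
    intro U V
    have := isAffineHom h
    refine hcompact (W := U.1 ⊓ V.1) ?_
    exact QuasiSeparatedSpace.inter_isCompact _ _ (π ⁻¹ᵁ U.1).2 (U.2.preimage π).isCompact
      (π ⁻¹ᵁ V.1).2 (V.2.preimage π).isCompact
  have key : ∀ y : XP, ∃ a : Γ(X, ⊤), π y ∈ X.basicOpen a ∧ IsAffineOpen (X.basicOpen a) := by
    intro y
    obtain ⟨U, hU, hxU, -⟩ := exists_isAffineOpen_mem_and_subset (x := π y) (U := ⊤) trivial
    obtain ⟨s, hs, hys⟩ := (isAffineOpen_top XP).exists_basicOpen_le (V := π ⁻¹ᵁ U) ⟨y, hxU⟩ (Set.mem_univ _)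
    obtain ⟨n, a, ha⟩ := exists_pow_eq h (W := ⊤) isCompact_univ s
    have hb : π ⁻¹ᵁ X.basicOpen a = XP.basicOpen s := by
      rw [Scheme.preimage_basicOpen, ha, Scheme.basicOpen_pow _ _ (pow_pos hp.out.pos _)]
      rfl
    have hle : X.basicOpen a ≤ U := by
      intro x hx
      obtain ⟨z, rfl⟩ := hh.surjective x
      exact hs (hb ▸ (show z ∈ π ⁻¹ᵁ X.basicOpen a from hx))
    refine ⟨a, ?_, ?_⟩
    · show y ∈ π ⁻¹ᵁ X.basicOpen a
      rw [hb]; exact hys
    · have e : X.basicOpen a = X.basicOpen (X.presheaf.map (homOfLE (le_top : U ≤ ⊤)).op a) := by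
        rw [Scheme.basicOpen_res]
        exact (inf_eq_right.mpr hle).symm
      rw [e]
      exact hU.basicOpen _
  choose a ha haff using key
  refine isAffine_of_isAffineOpen_basicOpen (Set.range a) ?_ (by rintro _ ⟨y, rfl⟩; exact haff y)
  by_contra hne
  obtain ⟨M, hM, hle⟩ := Ideal.exists_le_maximal _ hne
  have hspan : Ideal.span (Set.range fun y => π.appTop (a y)) = ⊤ := by
    rw [← (isAffineOpen_top XP).self_le_iSup_basicOpen_iff]
    rintro y -
    refine Opens.mem_iSup.mpr ⟨⟨_, y, rfl⟩, ?_⟩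
    show y ∈ XP.basicOpen (π.app ⊤ (a y))
    rw [← Scheme.preimage_basicOpen]
    exact ha y
  obtain ⟨c, hc⟩ := Finsupp.mem_ideal_span_range_iff_exists_finsupp.mp ((Ideal.eq_top_iff_one _).mp hspan)
  choose n b hb using fun y => exists_pow_eq h (W := ⊤) isCompact_univ (c y)
  let N := c.support.sup n
  have hN : π.appTop (∑ y ∈ c.support, b y ^ p ^ (N - n y) * a y ^ p ^ N) = 1 := by
    have h1 : (1 : Γ(XP, ⊤)) = (∑ y ∈ c.support, c y * π.appTop (a y)) ^ p ^ N := by
      rw [show ∑ y ∈ c.support, c y * π.appTop (a y) = 1 from hc, one_pow]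
    rw [h1, map_sum]
    rcases subsingleton_or_nontrivial Γ(XP, ⊤) with hs | hn
    · exact Subsingleton.elim _ _
    have := charP_of (p := p) Γ(XP, ⊤) (natCast_eq_zero XP ⊤)
    rw [sum_pow_char_pow]
    refine Finset.sum_congr rfl fun y hy => ?_
    rw [map_mul, map_pow, map_pow, show π.appTop (b y) = c y ^ p ^ n y from hb y, mul_pow, ← pow_mul, ← pow_add,
      Nat.add_sub_cancel' (Finset.le_sup hy)]
  have hnil : IsNilpotent ((∑ y ∈ c.support, b y ^ p ^ (N - n y) * a y ^ p ^ N) - 1) :=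
    isNilpotent_of_app_eq_zero h (W := ⊤) isCompact_univ (by
      show π.appTop _ = 0
      rw [map_sub, hN, map_one, sub_self])
  have hmem : (∑ y ∈ c.support, b y ^ p ^ (N - n y) * a y ^ p ^ N) ∈ M :=
    M.sum_mem fun y _ => M.mul_mem_left _ (M.pow_mem_of_mem (hle (Ideal.subset_span ⟨y, rfl⟩)) _ (pow_pos hp.out.pos _))
  have h2 := (nilradical_le_prime M) (mem_nilradical.mpr hnil)
  exact hM.ne_top ((Ideal.eq_top_iff_one _).mpr ((Submodule.sub_mem_iff_right M hmem).mp h2))

end Groth.Agent.PerfSchLib
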