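import Mathlib
import Groth.Agent.PerfSchLib.Homeo
import Groth.Agent.AWNLib.Colim
import Groth.Agent.S3694

/-!
# Morphisms and their perfections
-/

universe u

open CategoryTheory CategoryTheory.Limits AlgebraicGeometry TopologicalSpace

set_option linter.style.haveILetI false

namespace Groth.Agent.PerfSchLib

variable {p : ℕ} [hp : Fact p.Prime]

theorem quasiCompact_of_comp {X Y Z : Scheme.{u}} (f : X ⟶ Y) (g : Y ⟶ Z) [Surjective f]
    [QuasiCompact (f ≫ g)] : QuasiCompact g := by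
  refine ⟨fun U hU hc => ?_⟩
  have h1 := (QuasiCompact.isCompact_preimage (f := f ≫ g) U hU hc).image f.continuous
  have e : f '' ((f ≫ g) ⁻¹' U) = g ⁻¹' U := by
    rw [show (f ≫ g) ⁻¹' U = f ⁻¹' (g ⁻¹' U) from Set.ext fun x => by simp [Scheme.Hom.comp_apply]]
    exact Set.image_preimage_eq _ f.surjective
  rwa [e] at h1

/-- The square of self-products of `a : X' ⟶ X` over `Y`, seen from the diagonals. -/
theorem diagonal_square {X' X Y : Scheme.{u}} (a : X' ⟶ X) (g : X ⟶ Y) :
    a ≫ pullback.diagonal g = pullback.diagonal (a ≫ g) ≫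
      pullback.map (a ≫ g) (a ≫ g) g g a a (𝟙 Y) (by simp) (by simp) := by
  apply pullback.hom_ext <;>
    simp only [pullback.diagonal, Category.assoc, pullback.map, pullback.lift_fst, pullback.lift_snd, pullback.lift_fst_assoc, pullback.lift_snd_assoc, Category.comp_id, Category.id_comp]

theorem quasiSeparated_of_comp {X' X Y : Scheme.{u}} (a : X' ⟶ X) (g : X ⟶ Y) [Surjective a]
    [IsAffineHom a] [QuasiSeparated (a ≫ g)] : QuasiSeparated g := by
  have hm : IsAffineHom (pullback.map (a ≫ g) (a ≫ g) g g a a (𝟙 Y) (by simp) (by simp)) :=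
    MorphismProperty.pullbackMap (P := @IsAffineHom) (f' := g) (g' := g) ‹_› ‹_› rfl rfl
  have : QuasiCompact (a ≫ pullback.diagonal g) := by rw [diagonal_square]; infer_instance
  exact ⟨quasiCompact_of_comp a _⟩

theorem isSeparated_of_comp {X' X Y : Scheme.{u}} (a : X' ⟶ X) (g : X ⟶ Y) [Surjective a]
    [IsIntegralHom a] [IsSeparated (a ≫ g)] : IsSeparated g := by
  have hm : UniversallyClosed (pullback.map (a ≫ g) (a ≫ g) g g a a (𝟙 Y) (by simp) (by simp)) :=
    MorphismProperty.pullbackMap (P := @UniversallyClosed) (f' := g) (g' := g) inferInstance inferInstance rfl rfl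
  have h1 : UniversallyClosed (a ≫ pullback.diagonal g) := by rw [diagonal_square]; infer_instance
  have h2 : UniversallyClosed (pullback.diagonal g) := UniversallyClosed.of_comp_surjective a _
  exact ⟨IsClosedImmersion.of_isPreimmersion _ (pullback.diagonal g).isClosedMap.isClosed_range⟩

theorem surjective_morphismRestrict_appTop_iff {X Y : Scheme.{u}} (g : X ⟶ Y) (U : Y.Opens) :
    Function.Surjective (g ∣_ U).appTop.hom ↔ Function.Surjective (g.app U).hom := by
  have key : ∀ W, W = U → (Function.Surjective (g.app W).hom ↔ Function.Surjective (g.app U).hom) := by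
    rintro W rfl; rfl
  rw [← key _ (Scheme.Opens.ι_image_top U), morphismRestrict_appTop]
  erw [CommRingCat.hom_comp, RingHom.coe_comp]
  exact Function.Surjective.of_comp_iff'
    (ConcreteCategory.bijective_of_isIso
      (X.presheaf.map (eqToHom (image_morphismRestrict_preimage g U ⊤)).op)) _

variable {X Y XP YP : Scheme.{u}} [FrobSch.IsCharP X p] [FrobSch.IsCharP Y p] [FrobSch.IsCharP XP p]
  [FrobSch.IsCharP YP p] {πX : XP ⟶ X} {πY : YP ⟶ Y}
  (hX : FrobSch.IsPerfection πX p) (hY : FrobSch.IsPerfection πY p)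
  {f : X ⟶ Y} {fP : XP ⟶ YP} (w : fP ≫ πY = πX ≫ f)

include hX hY w

theorem quasiCompact_iff : QuasiCompact f ↔ QuasiCompact fP := by
  have := isAffineHom hX; have := isAffineHom hY; have := surjective hX
  constructor <;> intro h
  · have : QuasiCompact (fP ≫ πY) := by rw [w]; infer_instance
    exact QuasiCompact.of_comp fP πY
  · have : QuasiCompact (πX ≫ f) := by rw [← w]; infer_instance
    exact quasiCompact_of_comp πX f

theorem quasiSeparated_iff : QuasiSeparated f ↔ QuasiSeparated fP := by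
  have := isAffineHom hX; have := isAffineHom hY; have := surjective hX
  constructor <;> intro h
  · have : QuasiSeparated (fP ≫ πY) := by rw [w]; infer_instance
    exact QuasiSeparated.of_comp fP πY
  · have : QuasiSeparated (πX ≫ f) := by rw [← w]; infer_instance
    exact quasiSeparated_of_comp πX f

theorem isSeparated_iff : IsSeparated f ↔ IsSeparated fP := by
  have := isIntegralHom hX; have := isIntegralHom hY; have := surjective hX
  constructor <;> intro h
  · have : IsSeparated (fP ≫ πY) := by rw [w]; infer_instance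
    exact IsSeparated.of_comp fP πY
  · have : IsSeparated (πX ≫ f) := by rw [← w]; infer_instance
    exact isSeparated_of_comp πX f

theorem universallyClosed_iff : UniversallyClosed f ↔ UniversallyClosed fP := by
  have := isIntegralHom hX; have := isIntegralHom hY; have := surjective hX
  constructor <;> intro h
  · have : UniversallyClosed (fP ≫ πY) := by rw [w]; infer_instance
    exact UniversallyClosed.of_comp_of_isSeparated fP πY
  · have : UniversallyClosed (πX ≫ f) := by rw [← w]; infer_instance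
    exact UniversallyClosed.of_comp_surjective πX f

theorem isUnivHomeo_iff : FlatMor.IsUnivHomeo f ↔ FlatMor.IsUnivHomeo fP := by
  have := isIntegralHom hX; have := isIntegralHom hY; have := surjective hX; have := surjective hY
  have := universallyInjective hX; have := universallyInjective hY
  constructor <;> intro h
  · have := UnivHomeo.isIntegralHom h; have := UnivHomeo.universallyInjective h
    have := UnivHomeo.surjective h
    have h1 : IsIntegralHom (fP ≫ πY) := by rw [w]; infer_instance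
    have h2 : UniversallyInjective (fP ≫ πY) := by
      rw [w]; exact MorphismProperty.comp_mem _ _ _ inferInstance inferInstance
    have h3 : Surjective (fP ≫ πY) := by rw [w]; infer_instance
    have : IsIntegralHom fP := IsIntegralHom.of_comp fP πY
    have : UniversallyInjective fP := ((tfae_universallyInjective fP).out 1 0 :
      (∀ (K : Type u) [Field K], Function.Injective fun g : Spec (.of K) ⟶ _ => g ≫ fP) ↔
        UniversallyInjective fP).mp fun K _ a b hab =>
      ((tfae_universallyInjective (fP ≫ πY)).out 0 1 : UniversallyInjective (fP ≫ πY) ↔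
        (∀ (K : Type u) [Field K], Function.Injective fun a : Spec (.of K) ⟶ _ => a ≫ (fP ≫ πY))).mp h2 K
        (by simp only at hab ⊢; rw [← Category.assoc, hab, Category.assoc])
    have : Surjective fP := ⟨fun y => by
      obtain ⟨x, hx⟩ := (fP ≫ πY).surjective (πY y)
      rw [Scheme.Hom.comp_apply] at hx
      exact ⟨x, (isHomeomorph hY).injective hx⟩⟩
    exact UnivHomeo.of_isIntegralHom fP
  · refine AWNLib.isUnivHomeo_of_comp_surjective πX f ?_
    rw [← w]
    have := UnivHomeo.isIntegralHom h; have := UnivHomeo.universallyInjective h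
    have := UnivHomeo.surjective h
    have : UniversallyInjective (fP ≫ πY) := MorphismProperty.comp_mem _ _ _ inferInstance inferInstance
    exact UnivHomeo.of_isIntegralHom _

theorem isAffineHom_iff : IsAffineHom f ↔ IsAffineHom fP := by
  have := isAffineHom hX; have := isAffineHom hY
  constructor <;> intro h
  · have : IsAffineHom (fP ≫ πY) := by rw [w]; infer_instance
    exact IsAffineHom.of_comp fP πY
  · refine ⟨fun V hV => ?_⟩
    have h1 : IsAffineHom (πX ≫ f) := by rw [← w]; infer_instance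
    haveI : IsAffine (πX ⁻¹ᵁ (f ⁻¹ᵁ V)).toScheme := hV.preimage (πX ≫ f)
    haveI : FrobSch.IsCharP (πX ⁻¹ᵁ (f ⁻¹ᵁ V)).toScheme p := FrobSch.IsCharP.of_hom (πX ⁻¹ᵁ (f ⁻¹ᵁ V)).ι p
    haveI : FrobSch.IsCharP (f ⁻¹ᵁ V).toScheme p := FrobSch.IsCharP.of_hom (f ⁻¹ᵁ V).ι p
    exact isAffine_of_isAffine (IsPerfection.restrict hX (f ⁻¹ᵁ V))

theorem isOpenImmersion [IsOpenImmersion f] : IsOpenImmersion fP := by
  haveI : FrobSch.IsCharP (πY ⁻¹ᵁ f.opensRange).toScheme p := FrobSch.IsCharP.of_hom (πY ⁻¹ᵁ f.opensRange).ι p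
  have h' : FrobSch.IsPerfection (πX ≫ f.isoOpensRange.hom) p := by
    refine ⟨hX.1, fun T _ hT => ⟨fun g g' e => (hX.2 T hT).1 ?_, fun g => ?_⟩⟩
    · simp only at e ⊢
      rwa [← Category.assoc, ← Category.assoc, cancel_mono] at e
    · obtain ⟨l, hl⟩ := (hX.2 T hT).2 (g ≫ f.isoOpensRange.inv)
      refine ⟨l, ?_⟩
      simp only at hl ⊢
      rw [← Category.assoc, hl, Category.assoc, Iso.inv_hom_id, Category.comp_id]
  obtain ⟨e, he⟩ := IsPerfection.exists_iso h' (IsPerfection.restrict hY f.opensRange)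
  have : fP = e.hom ≫ (πY ⁻¹ᵁ f.opensRange).ι := (hY.2 XP hX.1).1 (by
    simp only
    rw [w, Category.assoc, ← morphismRestrict_ι, ← Category.assoc, he, Category.assoc,
      Scheme.Hom.isoOpensRange_hom_ι])
  rw [this]
  infer_instance

theorem flat [Flat f] : Flat fP := by
  rw [HasRingHomProperty.iff_exists_appLE (P := @Flat)
    (RingHom.Flat.stableUnderComposition.stableUnderCompositionWithLocalizationAway RingHom.Flat.holdsForLocalizationAway).left]
  intro x
  obtain ⟨V, hV, hxV, -⟩ := exists_isAffineOpen_mem_and_subset (x := πY (fP x)) (U := ⊤) trivial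
  have hx : πX x ∈ f ⁻¹ᵁ V := by
    show f (πX x) ∈ V
    rwa [← Scheme.Hom.comp_apply, ← w, Scheme.Hom.comp_apply]
  obtain ⟨U, hU, hxU, hUV⟩ := exists_isAffineOpen_mem_and_subset hx
  obtain ⟨hV', hiV⟩ := IsPerfection.affine_facts hY hV
  obtain ⟨hU', hiU⟩ := IsPerfection.affine_facts hX hU
  have e : πX ⁻¹ᵁ U ≤ fP ⁻¹ᵁ (πY ⁻¹ᵁ V) := by
    rw [← Scheme.Hom.comp_preimage, w, Scheme.Hom.comp_preimage]
    exact (Opens.map πX.base).map (homOfLE hUV) |>.le
  refine ⟨⟨_, hV'⟩, ⟨_, hU'⟩, hxU, e, ?_⟩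
  rcases subsingleton_or_nontrivial Γ(XP, πX ⁻¹ᵁ U) with hs | hn
  · letI := (fP.appLE (πY ⁻¹ᵁ V) (πX ⁻¹ᵁ U) e).hom.toAlgebra
    show Module.Flat _ _
    infer_instance
  let φ := (f.appLE V U hUV).hom
  let i := (πY.app V).hom
  let j := (πX.app U).hom
  let φ' := (fP.appLE (πY ⁻¹ᵁ V) (πX ⁻¹ᵁ U) e).hom
  have hsq : φ'.comp i = j.comp φ := by
    show (πY.app V ≫ fP.appLE (πY ⁻¹ᵁ V) (πX ⁻¹ᵁ U) e).hom = (f.appLE V U hUV ≫ πX.app U).hom
    congr 1
    rw [Scheme.Hom.app_eq_appLE, Scheme.Hom.app_eq_appLE, Scheme.Hom.appLE_comp_appLE,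
      Scheme.Hom.appLE_comp_appLE]
    congr 1
  have : Nontrivial Γ(YP, πY ⁻¹ᵁ V) := φ'.domain_nontrivial
  have : Nontrivial Γ(Y, V) := i.domain_nontrivial
  haveI := charP_of (p := p) Γ(Y, V) (natCast_eq_zero Y V)
  haveI := charP_of (p := p) Γ(YP, πY ⁻¹ᵁ V) (natCast_eq_zero YP _)
  haveI := charP_of (p := p) Γ(XP, πX ⁻¹ᵁ U) (natCast_eq_zero XP _)
  haveI := (perfRing_of_isPerfect (p := p) YP hY.1 (πY ⁻¹ᵁ V)).perfectRing
  haveI := (perfRing_of_isPerfect (p := p) XP hX.1 (πX ⁻¹ᵁ U)).perfectRing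
  letI := φ.toAlgebra
  letI := i.toAlgebra
  letI := j.toAlgebra
  letI : Algebra Γ(Y, V) Γ(XP, πX ⁻¹ᵁ U) := (j.comp φ).toAlgebra
  haveI : IsScalarTower Γ(Y, V) Γ(X, U) Γ(XP, πX ⁻¹ᵁ U) := IsScalarTower.of_algebraMap_eq fun _ => rfl
  haveI : IsPRadical (algebraMap Γ(Y, V) Γ(YP, πY ⁻¹ᵁ V)) p := hiV.isPRadical
  haveI : IsPRadical (algebraMap Γ(X, U) Γ(XP, πX ⁻¹ᵁ U)) p := hiU.isPRadical
  haveI : Module.Flat Γ(Y, V) Γ(X, U) := HasRingHomProperty.appLE (P := @Flat) f ‹_› ⟨V, hV⟩ ⟨U, hU⟩ hUV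
  exact PerfectionLib.flat (p := p) (B := Γ(X, U))
    (AlgHom.mk φ' fun a => RingHom.congr_fun hsq a)

theorem isClosedImmersion [IsClosedImmersion f] : IsClosedImmersion fP := by
  have := isAffineHom hY; have := isAffineHom hX
  have haff : IsAffineHom fP := (isAffineHom_iff hX hY w).mp inferInstance
  refine (HasAffineProperty.iff_of_iSup_eq_top (P := @IsClosedImmersion) (f := fP)
    (fun V : Y.affineOpens => (⟨πY ⁻¹ᵁ V.1, (IsPerfection.affine_facts hY V.2).1⟩ : YP.affineOpens)) ?_).mpr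
      fun V => ?_
  · refine eq_top_iff.mpr fun y _ => ?_
    obtain ⟨V, hV, hyV, -⟩ := exists_isAffineOpen_mem_and_subset (x := πY y) (U := ⊤) trivial
    exact Opens.mem_iSup.mpr ⟨⟨V, hV⟩, hyV⟩
  refine ⟨(IsPerfection.affine_facts hY V.2).1.preimage fP, ?_⟩
  have hiV := (IsPerfection.affine_facts hY V.2).2
  have hU : IsAffineOpen (f ⁻¹ᵁ V.1) := V.2.preimage f
  have hiU := (IsPerfection.affine_facts hX hU).2
  have hpre : fP ⁻¹ᵁ (πY ⁻¹ᵁ V.1) = πX ⁻¹ᵁ (f ⁻¹ᵁ V.1) := by
    rw [← Scheme.Hom.comp_preimage, w, Scheme.Hom.comp_preimage]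
  have hf : Function.Surjective (f.app V.1).hom := by
    have h0 : targetAffineLocally (fun X _ f _ => IsAffine X ∧ Function.Surjective f.appTop) f := by
      rw [← HasAffineProperty.eq_targetAffineLocally @IsClosedImmersion]; assumption
    exact (surjective_morphismRestrict_appTop_iff f V.1).mp (h0 V).2
  have hs : Function.Surjective (fP.appLE (πY ⁻¹ᵁ V.1) (πX ⁻¹ᵁ (f ⁻¹ᵁ V.1)) hpre.ge).hom := by
    intro x
    obtain ⟨n, b, hb⟩ := hiU.1 x
    obtain ⟨a, rfl⟩ := hf b
    obtain ⟨r, hr⟩ := ((perfRing_of_isPerfect (p := p) YP hY.1 (πY ⁻¹ᵁ V.1)).pow_bijective n).2 (πY.app V.1 a)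
    refine ⟨r, ((perfRing_of_isPerfect (p := p) XP hX.1 _).pow_bijective n).1 ?_⟩
    show _ ^ p ^ n = x ^ p ^ n
    rw [← map_pow, ← hb, show r ^ p ^ n = πY.app V.1 a from hr]
    show (πY.app V.1 ≫ fP.appLE _ _ hpre.ge) a = (f.app V.1 ≫ πX.app (f ⁻¹ᵁ V.1)) a
    congr 2
    rw [Scheme.Hom.app_eq_appLE, Scheme.Hom.app_eq_appLE, Scheme.Hom.app_eq_appLE,
      Scheme.Hom.appLE_comp_appLE, Scheme.Hom.appLE_comp_appLE]
    congr 1
  have hs2 : Function.Surjective (fP.app (πY ⁻¹ᵁ V.1)).hom := by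
    have e : fP.app (πY ⁻¹ᵁ V.1) = fP.appLE (πY ⁻¹ᵁ V.1) (πX ⁻¹ᵁ (f ⁻¹ᵁ V.1)) hpre.ge ≫
        XP.presheaf.map (eqToHom hpre).op := by
      rw [Scheme.Hom.appLE_map, Scheme.Hom.app_eq_appLE]
    rw [e]
    exact (ConcreteCategory.bijective_of_isIso (XP.presheaf.map (eqToHom hpre).op)).surjective.comp hs
  exact (surjective_morphismRestrict_appTop_iff fP _).mpr hs2

end Groth.Agent.PerfSchLib
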