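import Mathlib
import Groth.Agent.PerfSchLib.Maps
import Groth.Agent.S3694

/-!
# Perfections of immersions and of étale morphisms
-/

universe u

open CategoryTheory CategoryTheory.Limits AlgebraicGeometry TopologicalSpace

set_option linter.style.haveILetI false

namespace Groth.Agent.PerfSchLib

variable {p : ℕ} [hp : Fact p.Prime]

theorem ringHomFlat_of_field {K L : Type u} [Field K] [CommRing L] (φ : K →+* L) : φ.Flat := by
  letI := φ.toAlgebra
  exact (inferInstance : Module.Flat K L)

/-- The absolute Frobenius is universally injective. -/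
theorem universallyInjective_frob (Z : Scheme.{u}) [FrobSch.IsCharP Z p] :
    UniversallyInjective (FrobSch.frob Z p) := by
  refine ((tfae_universallyInjective _).out 1 0 :
    (∀ (K : Type u) [Field K], Function.Injective fun g : Spec (.of K) ⟶ _ => g ≫ FrobSch.frob Z p) ↔
      UniversallyInjective (FrobSch.frob Z p)).mp fun K _ a b hab => ?_
  simp only at hab
  haveI : FrobSch.IsCharP (Spec (.of K)) p := FrobSch.IsCharP.of_hom a p
  rw [← FrobSch.frob_comp p a, ← FrobSch.frob_comp p b] at hab
  have h0 : (p : K) = 0 := by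
    rw [← map_natCast (Scheme.ΓSpecIso (.of K)).hom.hom p, natCast_eq_zero (Spec (.of K)) ⊤, map_zero]
  have e : FrobSch.frob (Spec (.of K)) p = Spec.map (CommRingCat.ofHom (FrobSch.powHom p K h0)) := by
    refine ext_of_isAffine ?_
    rw [← cancel_epi (Scheme.ΓSpecIso (.of K)).inv, ← Scheme.ΓSpecIso_inv_naturality]
    refine CommRingCat.hom_ext (RingHom.ext fun x => ?_)
    exact (map_pow (Scheme.ΓSpecIso (CommRingCat.of K)).inv.hom x p).symm
  haveI : Flat (FrobSch.frob (Spec (.of K)) p) := by
    rw [e, HasRingHomProperty.Spec_iff (P := @Flat)]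
    exact ringHomFlat_of_field _
  haveI : Surjective (FrobSch.frob (Spec (.of K)) p) := ⟨fun x => ⟨x, rfl⟩⟩
  haveI := Flat.epi_of_flat_of_surjective (FrobSch.frob (Spec (.of K)) p)
  exact (cancel_epi _).mp hab

variable {X Y XP YP : Scheme.{u}} [FrobSch.IsCharP X p] [FrobSch.IsCharP Y p] [FrobSch.IsCharP XP p]
  [FrobSch.IsCharP YP p] {πX : XP ⟶ X} {πY : YP ⟶ Y}
  (hX : FrobSch.IsPerfection πX p) (hY : FrobSch.IsPerfection πY p)
  {f : X ⟶ Y} {fP : XP ⟶ YP} (w : fP ≫ πY = πX ≫ f)

include hX hY w

theorem isImmersion [IsImmersion f] : IsImmersion fP := by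
  haveI : FrobSch.IsCharP f.coborderRange.toScheme p := FrobSch.IsCharP.of_hom f.coborderRange.ι p
  haveI : FrobSch.IsCharP (πY ⁻¹ᵁ f.coborderRange).toScheme p :=
    FrobSch.IsCharP.of_hom (πY ⁻¹ᵁ f.coborderRange).ι p
  have hr : Set.range fP ⊆ Set.range (πY ⁻¹ᵁ f.coborderRange).ι := by
    rintro _ ⟨x, rfl⟩
    rw [Scheme.Opens.range_ι]
    show πY (fP x) ∈ f.coborderRange
    rw [← Scheme.Hom.comp_apply, w, Scheme.Hom.comp_apply]
    exact subset_coborder ⟨_, rfl⟩
  have hw : IsOpenImmersion.lift (πY ⁻¹ᵁ f.coborderRange).ι fP hr ≫ (πY ∣_ f.coborderRange) =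
      πX ≫ f.liftCoborder := by
    rw [← cancel_mono f.coborderRange.ι, Category.assoc, morphismRestrict_ι, ← Category.assoc,
      IsOpenImmersion.lift_fac, w, Category.assoc, Scheme.Hom.liftCoborder_ι]
  haveI := isClosedImmersion hX (IsPerfection.restrict hY f.coborderRange) hw
  rw [← IsOpenImmersion.lift_fac (πY ⁻¹ᵁ f.coborderRange).ι fP hr]
  infer_instance

theorem isPullback_of_etale [Etale f] : IsPullback fP πX πY f := by
  haveI : FrobSch.IsCharP (pullback f πY) p := FrobSch.IsCharP.of_hom (pullback.snd f πY) p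
  have hperf : FrobSch.IsPerfect (pullback f πY) p := by
    haveI := hY.1
    haveI : Etale (FrobSch.frob (pullback f πY) p ≫ pullback.snd f πY) := by
      rw [FrobSch.frob_comp p (pullback.snd f πY)]
      exact MorphismProperty.comp_mem _ _ _ inferInstance inferInstance
    haveI : Etale (FrobSch.frob (pullback f πY) p) := Etale.of_comp _ (pullback.snd f πY)
    haveI := universallyInjective_frob (p := p) (pullback f πY)
    exact (isIso_iff_isOpenImmersion_and_surjective _).mpr ⟨S3694.result _, ⟨fun x => ⟨x, rfl⟩⟩⟩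
  have hZ : FrobSch.IsPerfection (pullback.fst f πY) p := by
    refine ⟨hperf, fun T _ hT => ⟨fun g g' e => ?_, fun g => ?_⟩⟩
    · simp only at e
      refine pullback.hom_ext e ((hY.2 T hT).1 ?_)
      simp only [Category.assoc, ← pullback.condition]
      rw [← Category.assoc, e, Category.assoc]
    · obtain ⟨l, hl⟩ := (hY.2 T hT).2 (g ≫ f)
      exact ⟨pullback.lift g l hl.symm, pullback.lift_fst _ _ _⟩
  obtain ⟨e, he⟩ := IsPerfection.exists_iso hX hZ
  have he' : e.hom ≫ pullback.snd f πY = fP := (hY.2 XP hX.1).1 (by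
    simp only
    rw [Category.assoc, ← pullback.condition, ← Category.assoc, he, w])
  exact (IsPullback.of_iso (IsPullback.of_hasPullback f πY) e.symm (Iso.refl _) (Iso.refl _) (Iso.refl _)
    (by simp [← he]) (by simp [← he']) (by simp) (by simp)).flip

end Groth.Agent.PerfSchLib
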